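import Cfsg.Prelude.Def_Local

/-!
K-groups relative to an arbitrary isomorphism-invariant predicate `K` on groups
(`Cfsg.IsKGroupWith`, `Cfsg.IsCompositionKGroupWith`, `Cfsg.IsKProperWith`,
`Cfsg.IsMinCounterexampleWith`).

The working form of the definition is `kGroup_apply`: if `G` is a `K`-group, `H ≤ G` and `H` maps
onto a non-abelian simple group `X`, then `K X`.
-/

set_option autoImplicit false

namespace Cfsg.Agent.Lib.KnownSimple

open scoped commutatorElement

universe u v

/-- `K` is invariant under isomorphism (inside one universe). -/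
def IsoInvariant (K : ∀ (X : Type u) [Group X], Prop) : Prop :=
  ∀ (X Y : Type u) [Group X] [Group Y], (X ≃* Y) → K X → K Y

section Basics

variable {G : Type u} [Group G] {H : Type v} [Group H]

theorem isMulCommutative_of_injective (f : G →* H) (hf : Function.Injective f)
    (h : IsMulCommutative H) : IsMulCommutative G :=
  IsMulCommutative.of_comm fun a b =>
    hf (by rw [map_mul, map_mul]; exact isMulCommutative_iff.mp h (f a) (f b))

theorem isMulCommutative_of_surjective (f : G →* H) (hf : Function.Surjective f)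
    (h : IsMulCommutative G) : IsMulCommutative H :=
  IsMulCommutative.of_comm fun a b => by
    obtain ⟨a, rfl⟩ := hf a
    obtain ⟨b, rfl⟩ := hf b
    rw [← map_mul, ← map_mul, isMulCommutative_iff.mp h a b]

theorem isMulCommutative_congr (e : G ≃* H) : IsMulCommutative G ↔ IsMulCommutative H :=
  ⟨isMulCommutative_of_injective e.symm.toMonoidHom e.symm.injective,
    isMulCommutative_of_injective e.toMonoidHom e.injective⟩

theorem not_isMulCommutative_congr (e : G ≃* H) :
    ¬ IsMulCommutative G ↔ ¬ IsMulCommutative H :=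
  not_congr (isMulCommutative_congr e)

/-- A non-abelian simple group is not solvable. -/
theorem not_isSolvable_of_simple (hs : IsSimpleGroup G) (hna : ¬ IsMulCommutative G) :
    ¬ Group.IsSolvable G := fun h =>
  hna (IsMulCommutative.of_comm (IsSimpleGroup.comm_iff_isSolvable.mpr h))

/-- A non-abelian simple group is perfect. -/
theorem commutator_eq_top_of_simple (hs : IsSimpleGroup G) (hna : ¬ IsMulCommutative G) :
    commutator G = ⊤ := by
  rcases (Subgroup.commutator_normal (⊤ : Subgroup G) ⊤).eq_bot_or_eq_top with h | h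
  · refine absurd (IsMulCommutative.of_comm fun a b => ?_) hna
    have hc : ⁅a, b⁆ ∈ ⁅(⊤ : Subgroup G), (⊤ : Subgroup G)⁆ :=
      Subgroup.commutator_mem_commutator (Subgroup.mem_top a) (Subgroup.mem_top b)
    rw [h, Subgroup.mem_bot, commutatorElement_eq_one_iff_mul_comm] at hc
    exact hc
  · rw [commutator_def]; exact h

/-- A homomorphism out of a simple group onto a nontrivial group is injective. -/
theorem injective_of_surjective_of_simple [IsSimpleGroup G] [Nontrivial H] (f : G →* H)
    (hf : Function.Surjective f) : Function.Injective f := by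
  rcases f.normal_ker.eq_bot_or_eq_top with h | h
  · exact (MonoidHom.ker_eq_bot_iff f).mp h
  · exfalso
    obtain ⟨y, hy⟩ := exists_ne (1 : H)
    obtain ⟨x, rfl⟩ := hf y
    exact hy (MonoidHom.mem_ker.mp (h ▸ Subgroup.mem_top x))

end Basics

section KGroups

variable {K : ∀ (X : Type u) [Group X], Prop}
variable {G : Type u} [Group G] {G' : Type u} [Group G'] {X : Type u} [Group X]

/-- Working form of `IsKGroupWith`. -/
theorem kGroup_apply (hinv : IsoInvariant K) (hG : Cfsg.IsKGroupWith K G) {H : Subgroup G}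
    (φ : H →* X) (hφ : Function.Surjective φ) (hs : IsSimpleGroup X)
    (hna : ¬ IsMulCommutative X) : K X := by
  let e : H ⧸ φ.ker ≃* X := QuotientGroup.quotientKerEquivOfSurjective φ hφ
  exact hinv _ _ e (hG H φ.ker (e.isSimpleGroup_congr.mpr hs)
    ((not_isMulCommutative_congr e).mpr hna))

/-- Working form of `IsCompositionKGroupWith`. -/
theorem compKGroup_apply (hinv : IsoInvariant K) (hG : Cfsg.IsCompositionKGroupWith K G)
    {H : Subgroup G} (hH : H.IsSubnormal) (φ : H →* X) (hφ : Function.Surjective φ)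
    (hs : IsSimpleGroup X) (hna : ¬ IsMulCommutative X) : K X := by
  let e : H ⧸ φ.ker ≃* X := QuotientGroup.quotientKerEquivOfSurjective φ hφ
  exact hinv _ _ e (hG H hH φ.ker (e.isSimpleGroup_congr.mpr hs)
    ((not_isMulCommutative_congr e).mpr hna))

/-- A non-abelian simple `K`-group satisfies `K`. -/
theorem kGroup_self (hinv : IsoInvariant K) (hG : Cfsg.IsKGroupWith K G) (hs : IsSimpleGroup G)
    (hna : ¬ IsMulCommutative G) : K G :=
  kGroup_apply hinv hG (H := ⊤) (Subgroup.topEquiv (G := G)).toMonoidHom (MulEquiv.surjective Subgroup.topEquiv) hs hna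

theorem compKGroup_of_kGroup (hG : Cfsg.IsKGroupWith K G) : Cfsg.IsCompositionKGroupWith K G :=
  fun H _ N _ => hG H N

theorem compKGroup_self (hinv : IsoInvariant K) (hG : Cfsg.IsCompositionKGroupWith K G)
    (hs : IsSimpleGroup G) (hna : ¬ IsMulCommutative G) : K G :=
  compKGroup_apply hinv hG (H := ⊤) Subgroup.IsSubnormal.top (Subgroup.topEquiv (G := G)).toMonoidHom
    (MulEquiv.surjective Subgroup.topEquiv) hs hna

theorem kGroup_mono {K' : ∀ (X : Type u) [Group X], Prop}
    (h : ∀ (X : Type u) [Group X], IsSimpleGroup X → ¬ IsMulCommutative X → K X → K' X)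
    (hG : Cfsg.IsKGroupWith K G) : Cfsg.IsKGroupWith K' G :=
  fun H N _ hs hna => h _ hs hna (hG H N hs hna)

theorem compKGroup_mono {K' : ∀ (X : Type u) [Group X], Prop}
    (h : ∀ (X : Type u) [Group X], IsSimpleGroup X → ¬ IsMulCommutative X → K X → K' X)
    (hG : Cfsg.IsCompositionKGroupWith K G) : Cfsg.IsCompositionKGroupWith K' G :=
  fun H hH N _ hs hna => h _ hs hna (hG H hH N hs hna)

/-- Subgroups (more generally groups embedded) of `K`-groups are `K`-groups. -/
theorem kGroup_of_injective (hinv : IsoInvariant K) (hG : Cfsg.IsKGroupWith K G) (f : G' →* G)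
    (hf : Function.Injective f) : Cfsg.IsKGroupWith K G' := fun H N _ hs hna =>
  kGroup_apply hinv hG ((QuotientGroup.mk' N).comp (H.equivMapOfInjective f hf).symm.toMonoidHom)
    ((QuotientGroup.mk'_surjective N).comp (H.equivMapOfInjective f hf).symm.surjective) hs hna

theorem kGroup_subgroup (hinv : IsoInvariant K) (hG : Cfsg.IsKGroupWith K G) (H : Subgroup G) :
    Cfsg.IsKGroupWith K H :=
  kGroup_of_injective hinv hG H.subtype H.subtype_injective

/-- Quotients of `K`-groups are `K`-groups. -/
theorem kGroup_of_surjective (hinv : IsoInvariant K) (hG : Cfsg.IsKGroupWith K G) (f : G →* G')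
    (hf : Function.Surjective f) : Cfsg.IsKGroupWith K G' := fun H N _ hs hna =>
  kGroup_apply hinv hG ((QuotientGroup.mk' N).comp (f.subgroupComap H))
    ((QuotientGroup.mk'_surjective N).comp (f.subgroupComap_surjective_of_surjective H hf))
    hs hna

theorem kGroup_quotient (hinv : IsoInvariant K) (hG : Cfsg.IsKGroupWith K G) (N : Subgroup G)
    [N.Normal] : Cfsg.IsKGroupWith K (G ⧸ N) :=
  kGroup_of_surjective hinv hG _ (QuotientGroup.mk'_surjective N)

theorem kGroup_congr (hinv : IsoInvariant K) (e : G ≃* G') :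
    Cfsg.IsKGroupWith K G ↔ Cfsg.IsKGroupWith K G' :=
  ⟨fun h => kGroup_of_injective hinv h e.symm.toMonoidHom e.symm.injective,
    fun h => kGroup_of_injective hinv h e.toMonoidHom e.injective⟩

/-- Sections of `K`-groups are `K`-groups. -/
theorem kGroup_section (hinv : IsoInvariant K) (hG : Cfsg.IsKGroupWith K G) (H : Subgroup G)
    (N : Subgroup H) [N.Normal] : Cfsg.IsKGroupWith K (H ⧸ N) :=
  kGroup_quotient hinv (kGroup_subgroup hinv hG H) N

/-- A solvable group is a `K`-group, for every `K`. -/
theorem kGroup_of_solvable [Group.IsSolvable G] : Cfsg.IsKGroupWith K G := fun H N _ hs hna =>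
  absurd (inferInstance : Group.IsSolvable (H ⧸ N)) (not_isSolvable_of_simple hs hna)

theorem kGroup_of_subsingleton [Subsingleton G] : Cfsg.IsKGroupWith K G :=
  kGroup_of_solvable

/-- The composition version passes to subnormal subgroups. -/
theorem compKGroup_of_injective (hinv : IsoInvariant K) (hG : Cfsg.IsCompositionKGroupWith K G)
    (f : G' →* G) (hf : Function.Injective f) (hr : f.range.IsSubnormal) :
    Cfsg.IsCompositionKGroupWith K G' := fun H hH N _ hs hna => by
  have hsub : (H.map f).IsSubnormal := by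
    have h1 : ((H.map f.rangeRestrict).map f.range.subtype).IsSubnormal :=
      (hH.map f.rangeRestrict_surjective).trans' hr
    rwa [Subgroup.map_map, MonoidHom.subtype_comp_rangeRestrict] at h1
  exact compKGroup_apply hinv hG hsub
    ((QuotientGroup.mk' N).comp (H.equivMapOfInjective f hf).symm.toMonoidHom)
    ((QuotientGroup.mk'_surjective N).comp (H.equivMapOfInjective f hf).symm.surjective) hs hna

theorem compKGroup_subgroup (hinv : IsoInvariant K) (hG : Cfsg.IsCompositionKGroupWith K G)
    {H : Subgroup G} (hH : H.IsSubnormal) : Cfsg.IsCompositionKGroupWith K H :=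
  compKGroup_of_injective hinv hG H.subtype H.subtype_injective (by rwa [Subgroup.range_subtype])

theorem compKGroup_of_surjective (hinv : IsoInvariant K) (hG : Cfsg.IsCompositionKGroupWith K G)
    (f : G →* G') (hf : Function.Surjective f) : Cfsg.IsCompositionKGroupWith K G' :=
  fun H hH N _ hs hna =>
    compKGroup_apply hinv hG (hH.comap f) ((QuotientGroup.mk' N).comp (f.subgroupComap H))
      ((QuotientGroup.mk'_surjective N).comp (f.subgroupComap_surjective_of_surjective H hf))
      hs hna

theorem compKGroup_quotient (hinv : IsoInvariant K) (hG : Cfsg.IsCompositionKGroupWith K G)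
    (N : Subgroup G) [N.Normal] : Cfsg.IsCompositionKGroupWith K (G ⧸ N) :=
  compKGroup_of_surjective hinv hG _ (QuotientGroup.mk'_surjective N)

theorem compKGroup_congr (hinv : IsoInvariant K) (e : G ≃* G') :
    Cfsg.IsCompositionKGroupWith K G ↔ Cfsg.IsCompositionKGroupWith K G' :=
  ⟨fun h => compKGroup_of_surjective hinv h e.toMonoidHom e.surjective,
    fun h => compKGroup_of_surjective hinv h e.symm.toMonoidHom e.symm.surjective⟩

/-- The dichotomy behind the extension theorems: a surjection from `H ≤ G` onto a simple group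
either stays surjective on `H ∩ N` or factors through the image of `H` in `G ⧸ N`. -/
theorem section_dichotomy (N : Subgroup G) [N.Normal] (H : Subgroup G) (φ : H →* X)
    (hφ : Function.Surjective φ) [IsSimpleGroup X] :
    (∃ ψ : (H.subgroupOf N) →* X, Function.Surjective ψ) ∨
      ∃ ψ : (H.map (QuotientGroup.mk' N)) →* X, Function.Surjective ψ := by
  have hN : ((N.subgroupOf H).map φ).Normal :=
    (inferInstance : (N.subgroupOf H).Normal).map φ hφ
  rcases hN.eq_bot_or_eq_top with h | h
  · right
    let f : H →* H.map (QuotientGroup.mk' N) := (QuotientGroup.mk' N).subgroupMap H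
    have hf : Function.Surjective f := (QuotientGroup.mk' N).subgroupMap_surjective H
    have hker : f.ker ≤ φ.ker := by
      intro x hx
      have hxN : x ∈ N.subgroupOf H := by
        rw [Subgroup.mem_subgroupOf, ← QuotientGroup.eq_one_iff]
        exact congrArg Subtype.val (MonoidHom.mem_ker.mp hx)
      have hmem := Subgroup.mem_map_of_mem φ hxN
      rw [h] at hmem
      exact MonoidHom.mem_ker.mpr (Subgroup.mem_bot.mp hmem)
    refine ⟨f.liftOfSurjective hf ⟨φ, hker⟩, fun y => ?_⟩
    obtain ⟨x, rfl⟩ := hφ y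
    exact ⟨f x, f.liftOfRightInverse_comp_apply _ _ ⟨φ, hker⟩ x⟩
  · left
    let j : H.subgroupOf N →* H :=
      { toFun := fun x => ⟨x.1.1, x.2⟩
        map_one' := rfl
        map_mul' := fun _ _ => rfl }
    refine ⟨φ.comp j, fun y => ?_⟩
    obtain ⟨x, hx, rfl⟩ : y ∈ (N.subgroupOf H).map φ := h ▸ Subgroup.mem_top y
    exact ⟨⟨⟨x.1, hx⟩, x.2⟩, rfl⟩

/-- An extension of a `K`-group by a `K`-group is a `K`-group. -/
theorem kGroup_extension (hinv : IsoInvariant K) (N : Subgroup G) [N.Normal]
    (h1 : Cfsg.IsKGroupWith K N) (h2 : Cfsg.IsKGroupWith K (G ⧸ N)) : Cfsg.IsKGroupWith K G := by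
  intro H M _ hs hna
  have := hs
  rcases section_dichotomy N H (QuotientGroup.mk' M) (QuotientGroup.mk'_surjective M) with
    ⟨ψ, hψ⟩ | ⟨ψ, hψ⟩
  · exact kGroup_apply hinv h1 ψ hψ hs hna
  · exact kGroup_apply hinv h2 ψ hψ hs hna

/-- An extension of composition-`K`-groups is a composition-`K`-group. -/
theorem compKGroup_extension (hinv : IsoInvariant K) (N : Subgroup G) [N.Normal]
    (h1 : Cfsg.IsCompositionKGroupWith K N) (h2 : Cfsg.IsCompositionKGroupWith K (G ⧸ N)) :
    Cfsg.IsCompositionKGroupWith K G := by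
  intro H hH M _ hs hna
  have := hs
  rcases section_dichotomy N H (QuotientGroup.mk' M) (QuotientGroup.mk'_surjective M) with
    ⟨ψ, hψ⟩ | ⟨ψ, hψ⟩
  · exact compKGroup_apply hinv h1 hH.subgroupOf ψ hψ hs hna
  · exact compKGroup_apply hinv h2 hH.quotient ψ hψ hs hna

theorem kGroup_prod (hinv : IsoInvariant K) (h1 : Cfsg.IsKGroupWith K G)
    (h2 : Cfsg.IsKGroupWith K G') : Cfsg.IsKGroupWith K (G × G') := by
  refine kGroup_extension hinv (MonoidHom.snd G G').ker ?_ ?_
  · refine kGroup_of_injective hinv h1
      ((MonoidHom.fst G G').comp (MonoidHom.snd G G').ker.subtype) fun x y hxy => ?_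
    apply Subtype.ext
    apply Prod.ext
    · exact hxy
    · exact (MonoidHom.mem_ker.mp x.2).trans (MonoidHom.mem_ker.mp y.2).symm
  · exact (kGroup_congr hinv (QuotientGroup.quotientKerEquivOfSurjective
      (MonoidHom.snd G G') Prod.snd_surjective)).mpr h2

/-- Every proper section of a `K`-proper group satisfies `K`. -/
theorem kProper_apply (hinv : IsoInvariant K) (hG : Cfsg.IsKProperWith K G) {H : Subgroup G}
    (hH : H ≠ ⊤) (φ : H →* X) (hφ : Function.Surjective φ) (hs : IsSimpleGroup X)
    (hna : ¬ IsMulCommutative X) : K X :=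
  kGroup_apply hinv (hG H hH) (φ.comp (Subgroup.topEquiv (G := H)).toMonoidHom)
    (hφ.comp (MulEquiv.surjective Subgroup.topEquiv)) hs hna

theorem kProper_of_kGroup (hinv : IsoInvariant K) (hG : Cfsg.IsKGroupWith K G) :
    Cfsg.IsKProperWith K G :=
  fun H _ => kGroup_subgroup hinv hG H

/-- A `K`-proper simple group satisfying `K` is a `K`-group. -/
theorem kGroup_iff_of_simple (hinv : IsoInvariant K) (hs : IsSimpleGroup G)
    (hna : ¬ IsMulCommutative G) :
    Cfsg.IsKGroupWith K G ↔ K G ∧ Cfsg.IsKProperWith K G := by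
  refine ⟨fun h => ⟨kGroup_self hinv h hs hna, kProper_of_kGroup hinv h⟩, fun ⟨hK, hP⟩ => ?_⟩
  intro H N _ hqs hqna
  by_cases hH : H = ⊤
  · subst hH
    have := hs
    have := hqs
    let f : G →* (⊤ : Subgroup G) ⧸ N :=
      (QuotientGroup.mk' N).comp Subgroup.topEquiv.symm.toMonoidHom
    have hf : Function.Surjective f :=
      (QuotientGroup.mk'_surjective N).comp Subgroup.topEquiv.symm.surjective
    exact hinv _ _ (MulEquiv.ofBijective f ⟨injective_of_surjective_of_simple f hf, hf⟩) hK
  · exact kProper_apply hinv hP hH (QuotientGroup.mk' N) (QuotientGroup.mk'_surjective N) hqs hqna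

/-- A simple group is a composition-`K`-group as soon as it satisfies `K`. -/
theorem compKGroup_iff_of_simple (hinv : IsoInvariant K) (hs : IsSimpleGroup G)
    (hna : ¬ IsMulCommutative G) : Cfsg.IsCompositionKGroupWith K G ↔ K G := by
  refine ⟨fun h => compKGroup_self hinv h hs hna, fun hK => ?_⟩
  intro H hH N _ hqs hqna
  rcases hH.eq_bot_or_top_of_isSimpleGroup hs with hH | hH
  · subst hH
    exact absurd (inferInstance : Group.IsSolvable ((⊥ : Subgroup G) ⧸ N)) (not_isSolvable_of_simple hqs hqna)
  · subst hH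
    have := hs
    have := hqs
    let f : G →* (⊤ : Subgroup G) ⧸ N :=
      (QuotientGroup.mk' N).comp Subgroup.topEquiv.symm.toMonoidHom
    have hf : Function.Surjective f :=
      (QuotientGroup.mk'_surjective N).comp Subgroup.topEquiv.symm.surjective
    exact hinv _ _ (MulEquiv.ofBijective f ⟨injective_of_surjective_of_simple f hf, hf⟩) hK

/-- A minimal counterexample is `K`-proper. -/
theorem kProper_of_minCounterexample (hG : Cfsg.IsMinCounterexampleWith K G) :
    Cfsg.IsKProperWith K G := by
  obtain ⟨hfin, -, -, -, hmin⟩ := hG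
  intro H hH L N _ hs hna
  have := hfin
  have h1 : Nat.card (L ⧸ N) ≤ Nat.card L :=
    Nat.card_le_card_of_surjective _ (QuotientGroup.mk'_surjective N)
  have h2 : Nat.card L ≤ Nat.card H := Subgroup.card_le_card_group L
  have h3 : Nat.card H < Nat.card G :=
    lt_of_le_of_ne (Subgroup.card_le_card_group H) fun h => hH (Subgroup.eq_top_of_card_eq H h)
  exact hmin _ hs hna (lt_of_le_of_lt (h1.trans h2) h3)

/-- If some finite non-abelian simple group fails `K`, a minimal counterexample exists. -/
theorem exists_minCounterexample [Finite G] (hs : IsSimpleGroup G) (hna : ¬ IsMulCommutative G)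
    (hK : ¬ K G) :
    ∃ (X : Type u) (_ : Group X), Cfsg.IsMinCounterexampleWith K X ∧ Nat.card X ≤ Nat.card G := by
  classical
  let P : ℕ → Prop := fun n => ∃ (X : Type u) (_ : Group X), Finite X ∧ IsSimpleGroup X ∧
    ¬ IsMulCommutative X ∧ ¬ K X ∧ Nat.card X = n
  have hP : ∃ n, P n := ⟨Nat.card G, G, inferInstance, inferInstance, hs, hna, hK, rfl⟩
  obtain ⟨X, iX, hXf, hXs, hXna, hXK, hXc⟩ := Nat.find_spec hP
  refine ⟨X, iX, ⟨hXf, hXs, hXna, hXK, fun Y _ _ hYs hYna hlt => ?_⟩, ?_⟩
  · by_contra hYK
    exact Nat.find_min hP (hXc ▸ hlt) ⟨Y, inferInstance, inferInstance, hYs, hYna, hYK, rfl⟩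
  · rw [hXc]
    exact Nat.find_min' hP ⟨G, inferInstance, inferInstance, hs, hna, hK, rfl⟩

/-- If there is no minimal counterexample, every finite non-abelian simple group satisfies `K`. -/
theorem forall_of_no_minCounterexample
    (h : ∀ (X : Type u) [Group X], ¬ Cfsg.IsMinCounterexampleWith K X)
    [Finite G] (hs : IsSimpleGroup G) (hna : ¬ IsMulCommutative G) : K G := by
  by_contra hK
  obtain ⟨X, iX, hX, -⟩ := exists_minCounterexample hs hna hK
  exact h X hX

end KGroups

end Cfsg.Agent.Lib.KnownSimple
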